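import Groth.Prelude
import Groth.Agent.DVRFamilyLib.Basic
import Groth.Agent.ASp.SchDenseImage
import Groth.Agent.S10222

/-!
Reduced total space of a flat family over a discrete valuation ring, near the special fibre.
-/

set_option autoImplicit false
set_option backward.isDefEq.respectTransparency false
set_option backward.isDefEq.respectTransparency.types false

universe u

open CategoryTheory CategoryTheory.Limits AlgebraicGeometry

namespace Groth.Agent.AlgSpDVR

/-- Near every special point the total space of a flat locally finite type scheme over a discrete valuation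
ring with reduced special fibre is reduced. -/
theorem exists_open_reduced {R : Type u} [CommRing R] [IsDomain R] [IsDiscreteValuationRing R] {X : Scheme.{u}}
    (f : X ⟶ Spec (CommRingCat.of R)) [LocallyOfFiniteType f] [Flat f]
    (hred : IsReduced (f.fiber (IsLocalRing.closedPoint R))) (x' : X) (hfx' : f x' = IsLocalRing.closedPoint R) :
    ∃ O : X.Opens, x' ∈ O ∧ ∀ x ∈ O, _root_.IsReduced ↥(X.presheaf.stalk x) := by
  classical
  obtain ⟨ϖ, hirr⟩ := IsDiscreteValuationRing.exists_irreducible R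
  have hϖ : IsLocalRing.maximalIdeal R = Ideal.span {ϖ} := hirr.maximalIdeal_eq
  haveI : IsLocallyNoetherian X := LocallyOfFiniteType.isLocallyNoetherian f
  obtain ⟨_, ⟨U : X.Opens, hU, rfl⟩, hxU', -⟩ :=
    X.isBasis_affineOpens.exists_subset_of_mem_open (Set.mem_univ x') isOpen_univ
  haveI : IsNoetherianRing Γ(X, U) := IsLocallyNoetherian.component_noetherian ⟨U, hU⟩
  replace hU : IsAffineOpen U := hU
  let π := Groth.Agent.DVRFamilyLib.str f U ϖ
  have hreg : IsSMulRegular Γ(X, U) π := by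
    letI := (Groth.Agent.DVRFamilyLib.str f U).toAlgebra
    haveI : Module.Flat R Γ(X, U) := Groth.Agent.DVRFamilyLib.flat_str f hU
    intro c d hcd
    exact Module.Flat.isSMulRegular_of_nonZeroDivisors (M := Γ(X, U)) (mem_nonZeroDivisors_of_ne_zero hirr.ne_zero)
      (show ϖ • c = ϖ • d by rw [Algebra.smul_def, Algebra.smul_def]; exact hcd)
  have hle : nilradical Γ(X, U) ≤ Ideal.span {π} • nilradical Γ(X, U) := fun c hc => by
    obtain ⟨n, hn⟩ := hc
    obtain ⟨d, rfl⟩ := Ideal.mem_span_singleton'.1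
      (Groth.Agent.DVRFamilyLib.mem_span_of_pow_mem f ϖ hϖ hred hU c n (by rw [hn]; exact zero_mem _))
    rw [mul_comm d]
    refine Submodule.smul_mem_smul (Ideal.mem_span_singleton_self π) ⟨n, ?_⟩
    refine (hreg.pow n) ?_
    show π ^ n * d ^ n = π ^ n * 0
    rw [mul_zero, ← mul_pow, mul_comm]
    exact hn
  obtain ⟨r, hr, hrN⟩ := Submodule.exists_sub_one_mem_and_smul_eq_zero_of_fg_of_le_smul _ (nilradical Γ(X, U))
    (IsNoetherian.noetherian _) hle
  refine ⟨X.basicOpen r, ?_, fun x hx => ⟨fun a ha => ?_⟩⟩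
  · rw [X.mem_basicOpen r x' hxU']
    letI := X.presheaf.algebra_section_stalk ⟨x', hxU'⟩
    haveI := hU.isLocalization_stalk ⟨x', hxU'⟩
    refine IsLocalization.map_units _ (⟨r, fun hrq => ?_⟩ : (hU.primeIdealOf ⟨x', hxU'⟩).asIdeal.primeCompl)
    have hπ' : π ∈ (hU.primeIdealOf ⟨x', hxU'⟩).asIdeal := by
      have h1 : f (hU.fromSpec (hU.primeIdealOf ⟨x', hxU'⟩)) = IsLocalRing.closedPoint R := by
        rw [hU.fromSpec_primeIdealOf]; exact hfx'
      rw [← Scheme.Hom.comp_apply, Groth.Agent.DVRFamilyLib.fromSpec_comp f hU] at h1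
      exact (congrArg (fun q : PrimeSpectrum R => ϖ ∈ q.asIdeal) h1).mpr
        (hϖ.symm ▸ Ideal.mem_span_singleton_self ϖ : ϖ ∈ IsLocalRing.maximalIdeal R)
    refine (hU.primeIdealOf ⟨x', hxU'⟩).isPrime.ne_top ((Ideal.eq_top_iff_one _).2 ?_)
    rw [show (1 : Γ(X, U)) = r - (r - 1) by ring]
    exact sub_mem hrq ((Ideal.span_le.2 (Set.singleton_subset_iff.2 hπ')) hr)
  · have hxU : x ∈ U := X.basicOpen_le r hx
    have hru0 := (X.mem_basicOpen r x hxU).1 hx
    letI := X.presheaf.algebra_section_stalk ⟨x, hxU⟩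
    haveI := hU.isLocalization_stalk ⟨x, hxU⟩
    have hru : IsUnit (algebraMap Γ(X, U) (X.presheaf.stalk x) r) := hru0
    obtain ⟨⟨b, s⟩, hbs⟩ := IsLocalization.surj (hU.primeIdealOf ⟨x, hxU⟩).asIdeal.primeCompl a
    obtain ⟨n, hn⟩ := ha
    have h0 : algebraMap Γ(X, U) (X.presheaf.stalk x) (b ^ (n + 1)) = 0 := by
      rw [map_pow, ← hbs, mul_pow, pow_succ, hn, zero_mul, zero_mul]
    obtain ⟨⟨m, hm⟩, hmb⟩ :=
      (IsLocalization.map_eq_zero_iff (hU.primeIdealOf ⟨x, hxU⟩).asIdeal.primeCompl _ _).1 h0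
    have hmN : m * b ∈ nilradical Γ(X, U) := ⟨n + 1, by
      show (m * b) ^ (n + 1) = 0
      rw [mul_pow, pow_succ m, mul_assoc, show m * b ^ (n + 1) = 0 from hmb, mul_zero]⟩
    have h2 : algebraMap Γ(X, U) (X.presheaf.stalk x) r * (algebraMap _ _ m * algebraMap _ _ b) = 0 := by
      rw [← map_mul, ← map_mul, show r * (m * b) = 0 from hrN _ hmN, map_zero]
    have hb0 : algebraMap Γ(X, U) (X.presheaf.stalk x) b = 0 :=
      (IsLocalization.map_units _ (⟨m, hm⟩ : (hU.primeIdealOf ⟨x, hxU⟩).asIdeal.primeCompl)).mul_right_eq_zero.1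
        (hru.mul_right_eq_zero.1 h2)
    rw [hb0] at hbs
    exact (IsLocalization.map_units _ s).mul_left_eq_zero.1 hbs

end Groth.Agent.AlgSpDVR
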