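import Groth.Agent.AlgSpDVR.Basic

/-!
Reduced special fibre, read through the residue map.
-/

set_option autoImplicit false
set_option backward.isDefEq.respectTransparency false
set_option backward.isDefEq.respectTransparency.types false

universe u

open CategoryTheory CategoryTheory.Limits AlgebraicGeometry

namespace Groth.Agent.AlgSpDVR

theorem exists_iso_residue (R : Type u) [CommRing R] [IsLocalRing R] :
    ∃ e : Spec (CommRingCat.of (IsLocalRing.ResidueField R)) ⟶
        Spec ((Spec (CommRingCat.of R)).residueField (IsLocalRing.closedPoint R)),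
      IsIso e ∧ e ≫ (Spec (CommRingCat.of R)).fromSpecResidueField (IsLocalRing.closedPoint R) =
        Spec.map (CommRingCat.ofHom (IsLocalRing.residue R)) := by
  let j : Spec (CommRingCat.of (IsLocalRing.ResidueField R)) ⟶ Spec (CommRingCat.of R) :=
    Spec.map (CommRingCat.ofHom (IsLocalRing.residue R))
  let p : Spec (CommRingCat.of (IsLocalRing.ResidueField R)) := IsLocalRing.closedPoint _
  have hp : j p = IsLocalRing.closedPoint R := by
    apply PrimeSpectrum.ext
    show Ideal.comap (IsLocalRing.residue R) (IsLocalRing.maximalIdeal _) = IsLocalRing.maximalIdeal R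
    rw [IsLocalRing.isField_iff_maximalIdeal_eq.1 (Field.toIsField (IsLocalRing.ResidueField R)),
      ← RingHom.ker_eq_comap_bot, IsLocalRing.ker_residue]
  let φ := (Spec (CommRingCat.of R)).residueFieldCongr hp.symm
  let g := φ.hom ≫ (Spec (CommRingCat.of R)).descResidueField (Scheme.stalkClosedPointTo j)
  have hg : Spec.map g ≫ (Spec (CommRingCat.of R)).fromSpecResidueField (IsLocalRing.closedPoint R) = j := by
    rw [Spec.map_comp, Category.assoc, Scheme.residueFieldCongr_fromSpecResidueField]
    exact Scheme.descResidueField_stalkClosedPointTo_fromSpecResidueField _ _ j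
  refine ⟨Spec.map g, ?_, hg⟩
  have h2 : Spec.preimage ((Spec (CommRingCat.of R)).fromSpecResidueField (IsLocalRing.closedPoint R)) ≫ g =
      CommRingCat.ofHom (IsLocalRing.residue R) := by
    apply Spec.map_injective
    rw [Spec.map_comp, Spec.map_preimage]
    exact hg
  have hs : Function.Surjective g.hom := fun y => by
    obtain ⟨r, hr⟩ := IsLocalRing.residue_surjective (R := R) y
    exact ⟨_, (ConcreteCategory.congr_hom h2 r).trans hr⟩
  haveI : IsIso g := (ConcreteCategory.isIso_iff_bijective g).2 ⟨g.hom.injective, hs⟩
  infer_instance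

/-- The special fibre of a scheme over a local ring is reduced if its base change along the residue map is. -/
theorem isReduced_fiber {R : Type u} [CommRing R] [IsLocalRing R] {X P : Scheme.{u}}
    (f : X ⟶ Spec (CommRingCat.of R)) {a : P ⟶ X} {b : P ⟶ Spec (CommRingCat.of (IsLocalRing.ResidueField R))}
    (sq : IsPullback a b f (Spec.map (CommRingCat.ofHom (IsLocalRing.residue R)))) [IsReduced P] :
    IsReduced (f.fiber (IsLocalRing.closedPoint R)) := by
  obtain ⟨e, he, hej⟩ := exists_iso_residue R
  have sq' : IsPullback a (b ≫ e) f ((Spec (CommRingCat.of R)).fromSpecResidueField (IsLocalRing.closedPoint R)) :=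
    IsPullback.of_iso sq (Iso.refl _) (Iso.refl _) (asIso e) (Iso.refl _) (by simp) (by simp) (by simp)
      (by simp [hej])
  let i : pullback f ((Spec (CommRingCat.of R)).fromSpecResidueField (IsLocalRing.closedPoint R)) ≅ P :=
    sq'.isoPullback.symm
  exact isReduced_of_isOpenImmersion i.hom

end Groth.Agent.AlgSpDVR
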