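import Groth.Agent.AlgSpDVR.Fibre
import Groth.Agent.ASp.Points
import Groth.Agent.PicAVLib.Proper

/-!
Proper flat algebraic spaces over a discrete valuation ring with reduced special fibre.
-/

set_option autoImplicit false
set_option backward.isDefEq.respectTransparency false
set_option backward.isDefEq.respectTransparency.types false
set_option linter.style.haveILetI false

universe u

open CategoryTheory CategoryTheory.Limits AlgebraicGeometry Opposite

namespace Groth.Agent.AlgSpDVR

open _root_.AlgSp

/-- The pullback of a chart along a morphism of representables is a chart of the base change. -/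
theorem chart_baseChange {S : Scheme.{u}} {X X' : Sp S} {U T T' : Over S} {a : (yon S).obj U ⟶ X}
    {s : X ⟶ (yon S).obj T} (h : U ⟶ T) (hh : a ≫ s = (yon S).map h) (η : T' ⟶ T)
    {fst : X' ⟶ X} {snd : X' ⟶ (yon S).obj T'} (sq : IsPullback fst snd s ((yon S).map η))
    (ha : RepWith @Etale a) (has : RepWith @Surjective a) :
    ∃ (l : (yon S).obj (pullback h η) ⟶ X'),
      RepWith @Etale l ∧ RepWith @Surjective l := by
  have outer : IsPullback ((yon S).map (pullback.snd h η)) ((yon S).map (pullback.fst h η))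
      ((yon S).map η) (a ≫ s) := by
    rw [hh]
    exact ((IsPullback.of_hasPullback h η).map (yon S)).flip
  have w : ((yon S).map (pullback.fst h η) ≫ a) ≫ s = (yon S).map (pullback.snd h η) ≫ (yon S).map η := by
    rw [Category.assoc, ← outer.w]
  refine ⟨sq.lift ((yon S).map (pullback.fst h η) ≫ a) ((yon S).map (pullback.snd h η)) w, ?_⟩
  have hl : IsPullback (sq.lift ((yon S).map (pullback.fst h η) ≫ a) ((yon S).map (pullback.snd h η)) w)
      ((yon S).map (pullback.fst h η)) fst a := by
    refine IsPullback.of_right ?_ (sq.lift_fst _ _ _) sq.flip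
    rw [sq.lift_snd]
    exact outer
  exact ⟨ASp.repWith_of_isPullback hl.flip ha, ASp.repWith_of_isPullback hl.flip has⟩

theorem main (R : Type u) [CommRing R] [IsDomain R] [IsDiscreteValuationRing R]
    {X : AlgSp.Space (Spec (CommRingCat.of R))}
    (s : X.obj ⟶ (AlgSp.yon (Spec (CommRingCat.of R))).obj (Over.mk (𝟙 _)))
    (hs1 : AlgSp.IsProperMor s) (hs2 : AlgSp.LocP @Flat s)
    (h0 : ∀ (X0 : AlgSp.Sp (Spec (CommRingCat.of R))) (fst : X0 ⟶ X.obj)
      (snd : X0 ⟶ (AlgSp.yon (Spec (CommRingCat.of R))).obj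
        (Over.mk (Spec.map (CommRingCat.ofHom (IsLocalRing.residue R))))),
      IsPullback fst snd s ((AlgSp.yon (Spec (CommRingCat.of R))).map
        (Over.homMk (Spec.map (CommRingCat.ofHom (IsLocalRing.residue R))) (Category.comp_id _) :
          Over.mk (Spec.map (CommRingCat.ofHom (IsLocalRing.residue R))) ⟶ Over.mk (𝟙 _))) →
      AlgSp.IsReducedSp X0) :
    AlgSp.IsReducedSp X.obj ∧
      ∀ (Xη : AlgSp.Sp (Spec (CommRingCat.of R))) (fst : Xη ⟶ X.obj)
        (snd : Xη ⟶ (AlgSp.yon (Spec (CommRingCat.of R))).obj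
          (Over.mk (Spec.map (CommRingCat.ofHom (algebraMap R (FractionRing R)))))),
        IsPullback fst snd s ((AlgSp.yon (Spec (CommRingCat.of R))).map
          (Over.homMk (Spec.map (CommRingCat.ofHom (algebraMap R (FractionRing R)))) (Category.comp_id _) :
            Over.mk (Spec.map (CommRingCat.ofHom (algebraMap R (FractionRing R)))) ⟶ Over.mk (𝟙 _))) →
        AlgSp.IsReducedSp Xη := by
  obtain ⟨U, a, ha, has⟩ := X.property.atlas
  obtain ⟨h, hh⟩ := (yon (Spec (CommRingCat.of R))).map_surjective (a ≫ s)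
  haveI hflat : Flat h.left := hs2 a (𝟙 _) h ha (repWith_id @Etale _) (by rw [hh, Category.comp_id])
  haveI hft : LocallyOfFiniteType h.left :=
    hs1.2.1.1 a (𝟙 _) h ha (repWith_id @Etale _) (by rw [hh, Category.comp_id])
  -- the special fibre of the chart
  let η0 : Over.mk (Spec.map (CommRingCat.ofHom (IsLocalRing.residue R))) ⟶
      (Over.mk (𝟙 _) : Over (Spec (CommRingCat.of R))) :=
    Over.homMk (Spec.map (CommRingCat.ofHom (IsLocalRing.residue R))) (Category.comp_id _)
  let sq0 := IsPullback.of_hasPullback s ((yon (Spec (CommRingCat.of R))).map η0)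
  obtain ⟨l, hl, -⟩ := chart_baseChange h hh.symm η0 sq0 ha has
  haveI : IsReduced (pullback h η0).left := ASp.isReduced_of_chart (h0 _ _ _ sq0) hl
  have hred : IsReduced (Scheme.Hom.fiber (Y := Spec (CommRingCat.of R)) h.left (IsLocalRing.closedPoint R)) :=
    @isReduced_fiber R _ _ _ _ h.left _ _ ((IsPullback.of_hasPullback h η0).map (Over.forget _)) ‹_›
  -- the space of points
  have hclosed : IsClosedMap (Points.map s) :=
    hs1.2.2 (IsAlgSpace.yon_obj _) (𝟙 _) (𝟙 _) s (IsPullback.of_horiz_isIso ⟨by rw [Category.id_comp, Category.comp_id]⟩)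
  let φ := Points.schemeHomeo (Over.mk (𝟙 (Spec (CommRingCat.of R))))
  have hmap : ∀ u : ↥U.left, Points.map s (Points.ofPt a u) = φ (h.left u) := fun u => by
    rw [Points.map_ofPt, ← hh]
    exact (Points.map_ofPt (𝟙 _) ((yon _).map h) u).symm.trans
      (Points.map_yon_map_apply h u) |> fun e => by rw [Category.id_comp] at e; exact e
  have hat : ∀ x : Points X.obj, HasAt (fun U u => _root_.IsReduced ↥(U.presheaf.stalk u)) X.obj x := by
    intro x
    have hC : IsClosed (φ ⁻¹' (Points.map s '' closure {x})) :=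
      (hclosed _ isClosed_closure).preimage φ.continuous
    have hmem : φ.symm (Points.map s x) ∈ φ ⁻¹' (Points.map s '' closure {x}) := by
      rw [Set.mem_preimage, Homeomorph.apply_symm_apply]
      exact ⟨x, subset_closure rfl, rfl⟩
    obtain ⟨y, hy, hys⟩ :=
      ((IsLocalRing.specializes_closedPoint (R := R) (φ.symm (Points.map s x))).mem_closed hC hmem :
        (IsLocalRing.closedPoint R : ↥(Over.mk (𝟙 (Spec (CommRingCat.of R)))).left) ∈
          φ ⁻¹' (Points.map s '' closure {x}))
    obtain ⟨u', rfl⟩ := ASp.surjective_ofPt has y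
    have hu' : h.left u' = IsLocalRing.closedPoint R := φ.injective ((hmap u').symm.trans hys)
    obtain ⟨O, hO, hOred⟩ := exists_open_reduced (R := R) h.left hred u' hu'
    obtain ⟨u, hu, hux⟩ :=
      (specializes_iff_mem_closure.2 hy).mem_open (ASp.isOpenMap_ofPt_of_etale ha _ O.2) ⟨u', hO, rfl⟩
    exact ⟨U, a, u, ha, hux, hOred u hu⟩
  have hX : IsReducedSp X.obj := (Groth.Agent.S10222.result X).2 hat
  refine ⟨hX, fun Xη fst snd sq => ?_⟩
  obtain ⟨l', hl', hl's⟩ := chart_baseChange h hh.symm _ sq ha has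
  refine ⟨_, l', hl', hl's, ?_⟩
  haveI : IsReduced U.left := ASp.isReduced_of_chart hX ha
  haveI := Groth.Agent.PicAVLib.isOpenImmersion_generic R
  have hsq := (IsPullback.of_hasPullback h
    (Over.homMk (Spec.map (CommRingCat.ofHom (algebraMap R (FractionRing R)))) (Category.comp_id _) :
      Over.mk (Spec.map (CommRingCat.ofHom (algebraMap R (FractionRing R)))) ⟶
        (Over.mk (𝟙 _) : Over (Spec (CommRingCat.of R))))).map (Over.forget _)
  haveI : IsOpenImmersion (pullback.fst h _).left := MorphismProperty.of_isPullback hsq.flip ‹_›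
  exact isReduced_of_isOpenImmersion (pullback.fst h _).left

end Groth.Agent.AlgSpDVR
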